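import Cfsg.Agent.H443.PC.Defs
import Cfsg.Agent.Mrg.Omega.Lie.End.RowTable

/-!
# `HasTri` for `PSp`, `PSU`, `PΩ⁻` in characteristic two (task P3c of S3876)

In a Witt frame: `n_{x,y}(1) = n_{-y,-x}(1)` (characteristic two) and `n_x(p) = n_{-x}(p')`; so every node contains a symmetric group of
degree three generated by two root elements.
-/

set_option autoImplicit false
set_option linter.unusedSectionVars false

namespace Cfsg.Agent.H138.PIBS

open Cfsg CoxeterSystem Cfsg.Agent.ChevalleyStructure.CoxeterGeom Cfsg.Agent.Tits.Roots Cfsg.Agent.Nodes.TypeC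
open Cfsg.Agent.Nodes.Comb Cfsg.Agent.Nodes.Reps Cfsg.Agent.Nodes.WittRoot Cfsg.Agent.Nodes.BNOf
open Cfsg.Agent.Nodes Cfsg.Agent.Nodes.WittAll Cfsg.Agent.Nodes.WittU
open Cfsg.Agent.Nodes.WittRGD (rg_sr rg_neg_sr)
open Cfsg.Agent.TitsThree Cfsg.Agent.TitsThree.Siegel Cfsg.Agent.TitsThree.SiegelGen Cfsg.Agent.TitsThree.WittFrame
  Cfsg.Agent.TitsThree.WBridge Cfsg.Agent.TitsThree.WittWeyl Cfsg.Agent.TitsThree.FrameCN
open Cfsg.Agent.Omega.Lie.End.KWittRow Cfsg.Agent.Omega.Lie.End.KWittFour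
open Cfsg.Agent.H443.PC

section gen

variable {F : Type*} [Field F] {V : Type*} [AddCommGroup V] [Module F V] {H : HForm F V} {n : ℕ}
  {Fr : Frame H (Fin n)}

theorem eq_of_frame {G0 : Subgroup (V ≃ₗ[F] V)} {p : ℕ} (hA : AmbT Fr p G0) {g g' : V ≃ₗ[F] V}
    (hb : ∀ x, g (Fr.b x) = g' (Fr.b x)) (h0 : ∀ w ∈ Fr.V0, g w = g' w) : g = g' := by
  have h1 : g'⁻¹ * g = 1 := by
    refine eq_one_of_fix hA (fun x => ?_) fun w hw => ?_
    · rw [mul_apply', hb, ← mul_apply', inv_mul_cancel]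
      rfl
    · rw [mul_apply', h0 w hw, ← mul_apply', inv_mul_cancel]
      rfl
  exact (inv_mul_eq_one.1 h1).symm

theorem eq_or_neg {x z : Fin n × Bool} (h : z.1 = x.1) : z = x ∨ z = neg x := by
  obtain ⟨a, b⟩ := x
  obtain ⟨c, d⟩ := z
  obtain rfl : c = a := h
  cases b <;> cases d <;> simp [neg]

/-- `n_{x,y}(1) = n_{-y,-x}(1)` in characteristic two -/
theorem nX_eq [CharP F 2] {G0 : Subgroup (V ≃ₗ[F] V)} {p : ℕ} (hA : AmbT Fr p G0) {x y : Fin n × Bool}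
    (h : x.1 ≠ y.1) : nX Fr x y 1 = nX Fr (neg y) (neg x) 1 := by
  have hneg : ∀ a : F, -a = a := fun a => CharTwo.neg_eq a
  have hv : ∀ v : V, -v = v := fun v => by
    have h1 : v + v = 0 := by
      rw [← two_smul F, CharTwo.two_eq_zero, zero_smul]
    exact neg_eq_of_add_eq_zero_left h1
  have h' : (neg y).1 ≠ (neg x).1 := h.symm
  have ex := Fr.η_neg x
  have ey := Fr.η_neg y
  have hx := Fr.η_ne x
  have hy := Fr.η_ne y
  have hε := H.ε_ne
  have e1 : Fr.η (neg x) = H.ε * (Fr.η x)⁻¹ := by rw [← ex]; field_simp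
  have e2 : Fr.η (neg y) = H.ε * (Fr.η y)⁻¹ := by rw [← ey]; field_simp
  refine eq_of_frame hA (fun z => ?_) fun w hw => ?_
  · by_cases hzx : z.1 = x.1
    · rcases eq_or_neg hzx with rfl | rfl
      · rw [nX_apply_self Fr h one_ne_zero, inv_one, one_smul, hv]
        have h2 := nX_apply_neg Fr h' (one_ne_zero (α := F))
        rw [WittFrame.neg_neg, one_smul] at h2
        exact h2.symm
      · rw [nX_apply_neg' Fr h one_ne_zero, hv]
        have h2 := nX_apply_self' Fr h' (one_ne_zero (α := F))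
        rw [WittFrame.neg_neg] at h2
        rw [h2, e1, e2, map_one]
        congr 1
        field_simp
    · by_cases hzy : z.1 = y.1
      · rcases eq_or_neg hzy with rfl | rfl
        · rw [nX_apply_self' Fr h one_ne_zero]
          have h2 := nX_apply_neg' Fr h' (one_ne_zero (α := F))
          rw [WittFrame.neg_neg, hv] at h2
          rw [h2, e1, e2, map_one]
          congr 1
          field_simp
        · rw [nX_apply_neg Fr h one_ne_zero, one_smul]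
          have h2 := nX_apply_self Fr h' (one_ne_zero (α := F))
          rw [inv_one, one_smul, hv, WittFrame.neg_neg] at h2
          exact h2.symm
      · rw [nX_apply_of_ne Fr h hzx hzy, nX_apply_of_ne Fr h' hzy hzx]
  · rw [nX_apply_V0 Fr h hw, nX_apply_V0 Fr h' hw]

/-- the opposite admissible pair -/
def opp (x : Fin n × Bool) (p : Fr.Adm) : Fr.Adm := Frame.Adm.smul (-(Fr.η x * (H.σ p.c)⁻¹)) p

theorem opp_c (x : Fin n × Bool) {p : Fr.Adm} (hc : p.c ≠ 0) : (opp x p).c = (H.σ p.c)⁻¹ := by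
  have hσ : H.σ p.c ≠ 0 := by simpa using hc
  have hx := Fr.η_ne x
  rw [opp, Frame.Adm.smul_c]
  simp only [map_neg, map_mul, map_inv₀, H.σσ, Fr.σ_η]
  field_simp

theorem nZ_eq {G0 : Subgroup (V ≃ₗ[F] V)} {q : ℕ} (hA : AmbT Fr q G0) (x : Fin n × Bool) {p : Fr.Adm}
    (hc : p.c ≠ 0) : nZ Fr x p = nZ Fr (neg x) (opp x p) := by
  have hσ : H.σ p.c ≠ 0 := by simpa using hc
  have hc' : (opp x p).c ≠ 0 := by
    rw [opp_c x hc]
    exact inv_ne_zero hσ
  have ex := Fr.η_neg x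
  have hx := Fr.η_ne x
  have hε := H.ε_ne
  have e1 : Fr.η (neg x) = H.ε * (Fr.η x)⁻¹ := by rw [← ex]; field_simp
  refine eq_of_frame hA (fun z => ?_) fun w hw => ?_
  · by_cases hz : z.1 = x.1
    · rcases eq_or_neg hz with rfl | rfl
      · rw [nZ_apply_self Fr _ p hc]
        have h2 := nZ_apply_neg Fr (neg z) (opp z p) hc'
        rw [WittFrame.neg_neg] at h2
        rw [h2, opp_c _ hc, e1]
      · rw [nZ_apply_neg Fr _ p hc]
        have h2 := nZ_apply_self Fr (neg x) (opp x p) hc'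
        rw [WittFrame.neg_neg] at h2
        rw [h2, opp_c _ hc, e1, map_inv₀, H.σσ]
        congr 1
        field_simp
    · rw [nZ_apply_of_ne Fr hz, nZ_apply_of_ne Fr (x := neg x) hz]
  · rw [nZ_apply_V0 Fr x p hc hw, nZ_apply_V0 Fr (neg x) (opp x p) hc' hw, opp_c x hc]
    congr 1
    rw [opp, Frame.Adm.smul_w, H.smul_right, smul_smul]
    congr 1
    simp only [map_neg, map_mul, map_inv₀, H.σσ, Fr.σ_η]
    field_simp

variable {p : Fr.Adm} (hc : p.c ≠ 0) (hb : H.ε * p.c = H.σ p.c)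
include hc hb

theorem nZ_one (x : Fin n × Bool) : nZ Fr x p = Fr.Z x p * Fr.Z (neg x) (opp x p) * Fr.Z x p := by
  have hσ : H.σ p.c ≠ 0 := by simpa using hc
  rw [nZ, hb, mul_inv_cancel₀ hσ, Frame.Adm.one_smul]
  rfl

theorem opp_opp (x : Fin n × Bool) : opp (neg x) (opp x p) = p := by
  have hσ : H.σ p.c ≠ 0 := by simpa using hc
  have ex := Fr.η_neg x
  have hx := Fr.η_ne x
  rw [opp, opp_c x hc, opp, Frame.Adm.smul_smul, map_inv₀, H.σσ, inv_inv]
  have h1 : -(Fr.η (neg x) * p.c) * -(Fr.η x * (H.σ p.c)⁻¹) = 1 := by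
    rw [← hb]
    rw [← ex] at *
    have hx' := Fr.η_ne (neg x)
    field_simp
  rw [h1, Frame.Adm.one_smul]

theorem opp_hb (x : Fin n × Bool) : H.ε * (opp x p).c = H.σ (opp x p).c := by
  have hσ : H.σ p.c ≠ 0 := by simpa using hc
  have hε := H.ε_ne
  rw [opp_c x hc, map_inv₀, H.σσ, ← hb]
  field_simp

theorem braid_Z {G0 : Subgroup (V ≃ₗ[F] V)} {q : ℕ} (hA : AmbT Fr q G0) (x : Fin n × Bool) :
    Fr.Z x p * Fr.Z (neg x) (opp x p) * Fr.Z x p =
      Fr.Z (neg x) (opp x p) * Fr.Z x p * Fr.Z (neg x) (opp x p) := by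
  have hσ : H.σ p.c ≠ 0 := by simpa using hc
  have hc' : (opp x p).c ≠ 0 := by
    rw [opp_c x hc]
    exact inv_ne_zero hσ
  have h1 := nZ_one hc' (opp_hb hc hb x) (neg x)
  rw [WittFrame.neg_neg, opp_opp hc hb x] at h1
  rw [← nZ_one hc hb x, ← h1, nZ_eq hA x hc]

theorem sq_eq_one [CharP F 2] : p * p = 1 := by
  have h2 : (2 : F) = 0 := CharTwo.two_eq_zero
  apply Frame.Adm.ext
  · rw [Frame.Adm.mul_w, Frame.Adm.one_w, ← two_smul F, h2, zero_smul]
  · rw [Frame.Adm.mul_c, Frame.Adm.one_c]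
    have h3 : H.h p.w p.w = 0 := by
      have h4 := p.herm
      rw [← hb] at h4
      linear_combination h4 - H.ε * p.c * h2
    rw [h3, mul_zero, sub_zero]
    linear_combination p.c * h2

end gen

section model

variable {F : Type*} [Field F] {V : Type*} [AddCommGroup V] [Module F V] {H : HForm F V} {n : ℕ}
  {Fr : Frame H (Fin n)} {K : Type*} [Group K] (M : Model Fr K)

theorem tri_of {G : Type*} [Group G] {u v : G} (hu : u * u = 1) (hv : v * v = 1) (h : u * v * u = v * u * v) :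
    u * v * u * v * u * v = 1 := by
  calc u * v * u * v * u * v = (u * v * u) * (v * u * v) := by simp only [mul_assoc]
    _ = (u * v * u) * (u * v * u) := by rw [h]
    _ = u * (v * (u * u) * v) * u := by simp only [mul_assoc]
    _ = 1 := by rw [hu, mul_one, hv, mul_one, hu]

theorem ntri_of_mem {i : Fin n} {a b : V ≃ₗ[F] V} (ha : a ∈ M.I) (hb : b ∈ M.I) (hai : a ∈ rg Fr (sr i))
    (hbi : b ∈ rg Fr (-sr i)) (ha1 : M.φ ⟨a, ha⟩ ≠ 1) (hb1 : M.φ ⟨b, hb⟩ ≠ 1) (haa : a * a = 1) (hbb : b * b = 1)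
    (h : a * b * a = b * a * b) : NTri (WittModel.X M) i := by
  have h1 : M.φ ⟨a, ha⟩ * M.φ ⟨a, ha⟩ = 1 := by
    rw [← map_mul, show (⟨a, ha⟩ * ⟨a, ha⟩ : M.I) = 1 from Subtype.ext haa, map_one]
  have h2 : M.φ ⟨b, hb⟩ * M.φ ⟨b, hb⟩ = 1 := by
    rw [← map_mul, show (⟨b, hb⟩ * ⟨b, hb⟩ : M.I) = 1 from Subtype.ext hbb, map_one]
  refine ⟨M.φ ⟨a, ha⟩, ?_, M.φ ⟨b, hb⟩, ?_, ha1, hb1, h1, h2, tri_of h1 h2 ?_⟩
  · rw [WittModel.mem_X]
    exact ⟨a, ha, hai, rfl⟩
  · rw [WittModel.mem_X]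
    exact ⟨b, hb, hbi, rfl⟩
  · rw [← map_mul, ← map_mul, ← map_mul, ← map_mul]
    congr 1
    exact Subtype.ext h

theorem hasTri_model [Finite V] [Finite K] [CharP F 2] (hA : AmbT Fr 2 M.I) (hn : 2 ≤ n) {p0 : Fr.Adm}
    (hp0 : p0.c ≠ 0) (hb0 : H.ε * p0.c = H.σ p0.c) : HasTri K := by
  have : Fact (Nat.Prime 2) := ⟨Nat.prime_two⟩
  have hfin : Finite (CoxeterMatrix.B n).Group := finite_W (CoxeterMatrix.B n).toCoxeterSystem
  have R := rgdC_model M hA hp0 (CoxeterMatrix.B n).toCoxeterSystem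
  refine ⟨n, CoxeterMatrix.B n, A n, isCartan n, _, _, _, ⟨⟨0, by omega⟩, ⟨1, by omega⟩, by simp [Fin.ext_iff]⟩,
    hfin, R, WittModel.G1_eq_top M (by omega) _, fun i => ?_⟩
  by_cases hi : (i : ℕ) + 1 < n
  · have hne := ne_nx hi
    have hne' : (neg (nx i)).1 ≠ (neg ((i, true) : Fin n × Bool)).1 := hne.symm
    refine ntri_of_mem M (M.hX (i, true) (nx i) 1) (M.hX (neg (nx i)) (neg (i, true)) 1) ?_ ?_ (fun h => ?_)
      (fun h => ?_) ?_ ?_ ?_
    · rw [rg_sr, PG_ne Fr hne]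
      exact ⟨1, rfl⟩
    · rw [rg_neg_sr, PG_ne Fr (a := ng (i, true)) (b := ng (nx i)) hne,
        XG_swap Fr (a := ng (i, true)) (b := ng (nx i)) hne]
      exact ⟨1, rfl⟩
    · exact one_ne_zero (inj_X M hne h)
    · exact one_ne_zero (inj_X M hne' h)
    · rw [← Fr.X_add, CharTwo.add_self_eq_zero, Fr.X_zero]
    · rw [← Fr.X_add, CharTwo.add_self_eq_zero, Fr.X_zero]
    · have h1 := nX_eq (Fr := Fr) hA hne
      have e1 : (-1 : F)⁻¹ = 1 := by rw [CharTwo.neg_eq, inv_one]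
      have e2 : -(1 : F)⁻¹ = 1 := by rw [CharTwo.neg_eq, inv_one]
      rw [nX, nX, e2, WittFrame.neg_neg, WittFrame.neg_neg] at h1
      exact h1
  · have hc' : (opp (i, true) p0).c ≠ 0 := by
      rw [opp_c _ hp0]
      exact inv_ne_zero (by simpa using hp0)
    refine ntri_of_mem M (M.hZ (i, true) p0) (M.hZ (neg (i, true)) (opp (i, true) p0)) ?_ ?_ (fun h => ?_)
      (fun h => ?_) ?_ ?_ ?_
    · rw [rg_sr, nx_last hi, PG_self]
      exact ⟨p0, rfl⟩
    · rw [rg_neg_sr, nx_last hi, PG_self]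
      exact ⟨_, rfl⟩
    · have := inj_Z M h
      rw [this] at hp0
      exact hp0 rfl
    · have := inj_Z M h
      rw [this] at hc'
      exact hc' rfl
    · rw [← Fr.Z_mul, sq_eq_one hp0 hb0, Fr.Z_one]
    · rw [← Fr.Z_mul, sq_eq_one hc' (opp_hb hp0 hb0 _), Fr.Z_one]
    · exact braid_Z hp0 hb0 hA _

end model

theorem hb_of_w {F : Type*} [Field F] [CharP F 2] {V : Type*} [AddCommGroup V] [Module F V] {H : HForm F V} {n : ℕ}
    {Fr : Frame H (Fin n)} {p : Fr.Adm} (hw : p.w = 0) : H.ε * p.c = H.σ p.c := by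
  have h2 : (2 : F) = 0 := CharTwo.two_eq_zero
  have h := p.herm
  rw [hw, H.zero_right, neg_zero] at h
  linear_combination h - H.σ p.c * h2

theorem hb_of_id {F : Type*} [Field F] [CharP F 2] {V : Type*} [AddCommGroup V] [Module F V] {H : HForm F V} {n : ℕ}
    {Fr : Frame H (Fin n)} {p : Fr.Adm} (hσ : ∀ t, H.σ t = t) : H.ε * p.c = H.σ p.c := by
  have h2 : (2 : F) = 0 := CharTwo.two_eq_zero
  have h := H.ε_mul
  rw [hσ] at h ⊢
  have h3 : (H.ε - 1) * (H.ε - 1) = 0 := by linear_combination h + (1 - H.ε) * h2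
  have h4 : H.ε = 1 := sub_eq_zero.1 (mul_self_eq_zero.1 h3)
  rw [h4, one_mul]

/-! ### the rows -/

section Unitary

open Cfsg.Agent.TitsThree.KSideU Cfsg.Agent.TitsThree.KSideUDesc

theorem hasTri_PSU {F : Type*} [Field F] [Fintype F] {q N : ℕ} (hF : Fintype.card F = q ^ 2) (hN : 4 ≤ N) [CharP F 2] :
    HasTri (PSU N F q) := by
  have : Fact (Nat.Prime 2) := ⟨Nat.prime_two⟩
  obtain ⟨m, hm⟩ : ∃ m, N = 2 * m ∨ N = 2 * m + 1 := ⟨N / 2, by omega⟩
  obtain ⟨W, -⟩ := exists_wframe hF hm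
  obtain ⟨p0, hp0, hw0⟩ := exists_adm hF W
  have hA : AmbT (toFrame W) 2 (KInstU.model hF (by omega : 3 ≤ N) W).I := AmbT.of_amb (amb_U hF W) 2
  exact hasTri_model (KInstU.model hF (by omega) W) hA (by omega) hp0 (hb_of_w hw0)

end Unitary

section Symplectic

open SpIdent SpGen

theorem hasTri_PSp {F : Type*} [Field F] [Finite F] [CharP F 2] {m : ℕ} (hm : 2 ≤ m) : HasTri (PSp m F) := by
  have : Fact (Nat.Prime 2) := ⟨Nat.prime_two⟩
  have hA : AmbT (frame m F) 2 (KInstSp.model m F).I := AmbT.of_amb amb_Sp 2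
  exact hasTri_model (KInstSp.model m F) hA hm (p0 := SpIdent.adm 1) one_ne_zero (hb_of_id fun _ => rfl)

end Symplectic

section Minus

open Cfsg.Agent.LieClassical.OrthForms Cfsg.Agent.TitsThree.KSideO Cfsg.Agent.KFacts.SpecMinus
  Cfsg.Agent.OddHalf.DblR.MinusTor

theorem hasTri_POmegaMinus {F : Type*} [Field F] [Finite F] [CharP F 2] (a b : F)
    (hab : ∀ z₁ z₂ : F, z₁ ^ 2 + a * z₁ * z₂ + b * z₂ ^ 2 = 0 → z₁ = 0 ∧ z₂ = 0) {m : ℕ} (hm : 2 ≤ m) :
    HasTri (Cfsg.POmega F (Cfsg.quadFormMinus m F a b)) := by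
  have : Fact (Nat.Prime 2) := ⟨Nat.prime_two⟩
  have h2 : (2 : F) = 0 := CharTwo.two_eq_zero
  rw [← coe_minusForm]
  have hA := ambT_minus h2 hm a b hab
  obtain ⟨p0, hp0⟩ := adm_minus m a b hab
  have O := orth_minus h2 m a b hab
  exact hasTri_model (modelMinus hm a b hab) hA hm hp0 (hb_of_id O.σ)

end Minus

end Cfsg.Agent.H138.PIBS

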